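import Cfsg.Agent.H831.Rl.HerE
import Cfsg.Agent.H50.HerFinal

/-!
# S3691, PSL-6 (helper831): `hering_H`, `hering_B` for known simple groups (no import of S0000)
-/

set_option autoImplicit false

namespace Cfsg.Agent.H831.Rl

open Cfsg Cfsg.Geo Matrix Cfsg.Agent.H454.Reg Cfsg.Agent.H851.Rl
open scoped MatrixGroups

universe u

theorem hAct_of_known (hX : ∀ (X : Type) [Group X] [Finite X] [IsSimpleGroup X], IsKnownSimple' X) : HAct :=
  fun {_ _} _ _ _ _ _ q n hq hn hn2 H hadd hsemi htrans =>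
    Cfsg.Agent.H667.HerFin.action_of_main (Cfsg.Agent.H50.Her.main_of_known hX) Cfsg.Agent.H50.Her.altSix
      Cfsg.Agent.H50.Her.altSeven Cfsg.Agent.H50.Her.thirteen q n hq hn hn2 H hadd hsemi htrans

end Cfsg.Agent.H831.Rl
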