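import Cfsg.Agent.H831.Rl.HerC
import Cfsg.Agent.LieRecognition.FieldSemilinear

/-!
# S3691, PSL-6a (helper831): `VStab v ≤ pg e H`, `H` maximal: the complement is metacyclic
-/

set_option autoImplicit false

namespace Cfsg.Agent.H831.Rl

open Cfsg Cfsg.Geo Matrix Cfsg.Agent.H454.Reg Cfsg.Agent.H851.Rl
open Cfsg.Agent.H199.PslAut
open Cfsg.Agent.ClassicalGeometry.AutPSL.Root (pr pr_surjective)
open scoped MatrixGroups

universe u

section semi

variable {V F₁ : Type} [AddCommGroup V] [Field F₁] {e₁ : V ≃+ F₁}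

/-- `π` acts on `F₁` as `x ↦ c τ(x)` -/
def SR (e₁ : V ≃+ F₁) (π : Equiv.Perm V) (c : F₁) (τ : F₁ ≃+* F₁) : Prop := ∀ w, e₁ (π w) = c * τ (e₁ w)

theorem SR.ne {π : Equiv.Perm V} {c : F₁} {τ : F₁ ≃+* F₁} (h : SR e₁ π c τ) : c ≠ 0 := by
  rintro rfl
  have h1 := h (e₁.symm 0)
  have h2 := h (e₁.symm 1)
  rw [zero_mul] at h1 h2
  have h3 := e₁.symm.injective (π.injective (e₁.injective (h1.trans h2.symm)))
  exact zero_ne_one h3

theorem SR.mul {π ρ : Equiv.Perm V} {c d : F₁} {τ μ : F₁ ≃+* F₁} (h : SR e₁ π c τ) (k : SR e₁ ρ d μ) :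
    SR e₁ (π * ρ) (c * τ d) (τ * μ) := by
  intro w
  rw [Equiv.Perm.mul_apply, h, k, map_mul, mul_assoc]
  rfl

theorem SR.one : SR e₁ 1 1 1 := by
  intro w
  rw [one_mul]
  rfl

theorem SR.inv {π : Equiv.Perm V} {c : F₁} {τ : F₁ ≃+* F₁} (h : SR e₁ π c τ) :
    SR e₁ π⁻¹ (τ.symm c⁻¹) τ⁻¹ := by
  intro w
  apply τ.injective
  have h1 := h (π⁻¹ w)
  rw [show π (π⁻¹ w) = w from π.apply_symm_apply w] at h1
  rw [map_mul, τ.apply_symm_apply, show τ (τ⁻¹ (e₁ w)) = e₁ w from τ.apply_symm_apply _, h1, ← mul_assoc,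
    inv_mul_cancel₀ h.ne, one_mul]

theorem SR.unique {π : Equiv.Perm V} {c d : F₁} {τ μ : F₁ ≃+* F₁} (h : SR e₁ π c τ) (k : SR e₁ π d μ) :
    c = d ∧ τ = μ := by
  have h1 : c = d := by
    have h2 := h (e₁.symm 1)
    rw [k, e₁.apply_symm_apply, map_one, map_one, mul_one, mul_one] at h2
    exact h2.symm
  subst h1
  refine ⟨rfl, RingEquiv.ext fun x => ?_⟩
  have h2 := h (e₁.symm x)
  rw [k, e₁.apply_symm_apply] at h2
  exact (mul_left_cancel₀ h.ne h2).symm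

end semi

theorem Rep.map0 {G : Type u} [Group G] {T : Subgroup G} {n : ℕ} {F : Type} [Field F] {hT : T.Normal}
    {e : T ≃* Matrix.ProjectiveSpecialLinearGroup (Fin n) F} {x : G} {π : Equiv.Perm (Fin n → F)} {a : GL (Fin n) F}
    {σ : F ≃+* F} (h : Rep hT e x π a σ) : π 0 = 0 := by
  have := h.smul 0 0
  rwa [zero_smul, map_zero σ, zero_smul] at this

section fac

variable {G : Type u} [Group G] [Finite G] {T : Subgroup G} {n : ℕ} {F : Type} [Field F] [Fintype F]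
  {e : T ≃* Matrix.ProjectiveSpecialLinearGroup (Fin n) F} {v : Fin n → F}

omit [Fintype F] in
theorem exists_vstab (hn : 3 ≤ n) (hv : v ≠ 0) : ∃ s : Matrix.SpecialLinearGroup (Fin n) F,
    Matrix.SpecialLinearGroup.toGL s ∈ VStab v ∧ pr s ≠ 1 := by
  obtain ⟨w, hw, -⟩ := exists_out hn v 0 0
  have hw1 : w ∉ Submodule.span F ({v} : Set (Fin n → F)) := fun h1 => hw
    (Submodule.span_mono (by simp) h1)
  have hw2 : v + w ∉ Submodule.span F ({v} : Set (Fin n → F)) := by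
    intro h1
    apply hw1
    have := Submodule.sub_mem _ h1 (Submodule.mem_span_singleton_self v)
    rwa [add_sub_cancel_left] at this
  obtain ⟨x, hx, hxw⟩ := vstab_trans hn hw1 hw2
  obtain ⟨s, rfl⟩ := exists_sl hx.1
  refine ⟨s, hx, fun h6 => ?_⟩
  have h7 : s ∈ Subgroup.center (Matrix.SpecialLinearGroup (Fin n) F) := by
    rw [← QuotientGroup.eq_one_iff]
    exact h6
  rw [Matrix.SpecialLinearGroup.mem_center_iff] at h7
  obtain ⟨c, -, hc⟩ := h7
  have h8 : ∀ u : Fin n → F, (Matrix.SpecialLinearGroup.toGL s : Matrix (Fin n) (Fin n) F) *ᵥ u = c • u := by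
    intro u
    rw [show ((Matrix.SpecialLinearGroup.toGL s : GL (Fin n) F) : Matrix (Fin n) (Fin n) F) =
      (s : Matrix (Fin n) (Fin n) F) from rfl, ← hc, Matrix.scalar_apply, ← Matrix.smul_one_eq_diagonal, smul_mulVec,
      one_mulVec]
  have h9 := hx.2
  rw [h8] at h9 hxw
  have h10 : c = 1 := by
    have h10 : (c - 1) • v = 0 := by rw [sub_smul, one_smul, h9, sub_self]
    rcases smul_eq_zero.1 h10 with h11 | h11
    · exact sub_eq_zero.1 h11
    · exact absurd h11 hv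
  rw [h10, one_smul] at hxw
  exact hv (by simpa using hxw)

omit [Finite G] [Fintype F] in
theorem not_le_B {H B : Subgroup G} (h : Ex T H B) (hn : 3 ≤ n) (hv : v ≠ 0) (hs : VStab v ≤ pg e H) : ¬ T ≤ B := by
  intro hTB
  obtain ⟨s, hs1, hs2⟩ := exists_vstab hn hv
  obtain ⟨t, ht, h1⟩ := (mem_pg e).1 (hs hs1)
  have h2 : (t : G) ∈ H ⊓ B := ⟨ht, hTB t.2⟩
  rw [h.inf, Subgroup.mem_bot] at h2
  apply hs2
  rw [← h1, show t = 1 from Subtype.ext h2, map_one]

omit [Finite G] in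
/-- every element of `G` has a lift -/
theorem all_rep {H B : Subgroup G} (h : Ex T H B) (hn : 3 ≤ n) (hv : v ≠ 0) (hs : VStab v ≤ pg e H) (x : G) :
    ∃ π a σ, Rep h.normal e x π a σ := by
  let G0 : Subgroup G :=
    { carrier := {x | ∃ π a σ, Rep h.normal e x π a σ}
      one_mem' := ⟨1, 1, 1, Rep.one⟩
      mul_mem' := by
        rintro x y ⟨π, a, σ, h1⟩ ⟨ρ, b, τ, h2⟩
        exact ⟨_, _, _, h1.mul h2⟩
      inv_mem' := by
        rintro x ⟨π, a, σ, h1⟩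
        exact ⟨_, _, _, h1.inv⟩ }
  have hH : H ≤ G0 := by
    intro y hy
    obtain ⟨π, a, σ, h1, -⟩ := lift_right hn hv h.normal h.not_le hs hy
    exact ⟨π, a, σ, h1⟩
  have hTG : T ≤ G0 := by
    intro t ht
    obtain ⟨s, hs⟩ := pr_surjective (e ⟨t, ht⟩)
    have h1 : au h.normal e t = Psi n F (Matrix.SpecialLinearGroup.toGL s) * phi n F 1 := by
      rw [show t = ((⟨t, ht⟩ : T) : G) from rfl, au_coe, ← hs, map_one, mul_one]
      exact (Psi_coe s).symm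
    obtain ⟨π, hπ⟩ := exists_rep h.normal e h1
    exact ⟨_, _, _, hπ⟩
  have h1 : G0 = ⊤ := by
    rw [eq_top_iff, ← h.sup_eq]
    exact sup_le hH hTG
  have h2 : x ∈ G0 := by rw [h1]; trivial
  exact h2

omit [Finite G] in
/-- the stabiliser of `⟨v⟩` is `H` -/
theorem mem_H {H B : Subgroup G} (h : Ex T H B) (hn : 3 ≤ n) (hv : v ≠ 0) (hs : VStab v ≤ pg e H) {x : G}
    {π : Equiv.Perm (Fin n → F)} {a : GL (Fin n) F} {σ : F ≃+* F} (hr : Rep h.normal e x π a σ) {c : F} (hc : c ≠ 0)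
    (hπ : π v = c • v) : x ∈ H := by
  let P0 : Subgroup G :=
    { carrier := {x | ∃ π a σ, Rep h.normal e x π a σ ∧ ∃ c : F, c ≠ 0 ∧ π v = c • v}
      one_mem' := ⟨1, 1, 1, Rep.one, 1, one_ne_zero, by rw [one_smul]; rfl⟩
      mul_mem' := by
        rintro x y ⟨π, a, σ, h1, c, hc, h1'⟩ ⟨ρ, b, τ, h2, d, hd, h2'⟩
        refine ⟨_, _, _, h1.mul h2, σ d * c, mul_ne_zero ((map_ne_zero_iff σ σ.injective).2 hd) hc, ?_⟩
        rw [Equiv.Perm.mul_apply, h2', h1.smul, h1', smul_smul]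
      inv_mem' := by
        rintro x ⟨π, a, σ, h1, c, hc, h1'⟩
        refine ⟨_, _, _, h1.inv, (σ.symm c)⁻¹, inv_ne_zero ((map_ne_zero_iff σ.symm σ.symm.injective).2 hc), ?_⟩
        have h2 := h1.inv.smul c v
        rw [← h1', show π⁻¹ (π v) = v from π.symm_apply_apply v] at h2
        rw [show σ⁻¹ c = σ.symm c from rfl] at h2
        conv_rhs => rw [h2]
        rw [smul_smul, inv_mul_cancel₀ ((map_ne_zero_iff σ.symm σ.symm.injective).2 hc), one_smul] }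
  have hH : H ≤ P0 := fun y hy => lift_right hn hv h.normal h.not_le hs hy
  have hne : P0 ≠ ⊤ := by
    intro htop
    obtain ⟨w, hw, -⟩ := exists_out hn v 0 0
    have hw1 : w ∉ Submodule.span F ({v} : Set (Fin n → F)) := fun h1 => hw (Submodule.span_mono (by simp) h1)
    have hw0 : w ≠ 0 := fun h0 => hw (by rw [h0]; exact zero_mem _)
    obtain ⟨g, hg, hgw⟩ := sl_trans hn hv hw0
    obtain ⟨s, rfl⟩ := exists_sl hg
    obtain ⟨t, ht⟩ := e.surjective (pr s)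
    have h1 : au h.normal e (t : G) = Psi n F (Matrix.SpecialLinearGroup.toGL s) * phi n F 1 := by
      rw [au_coe, ht, map_one, mul_one]
      exact (Psi_coe s).symm
    obtain ⟨ρ, hρ⟩ := exists_rep h.normal e h1
    have h2 : (t : G) ∈ P0 := by rw [htop]; trivial
    obtain ⟨π, a, σ, hr, c, hc, hπ⟩ := h2
    obtain ⟨-, d, hd, h3⟩ := hr.unique' (by omega) hρ
    have h4 : ρ v = w := by
      rw [hρ.eq]
      exact hgw
    rw [h3, h4] at hπ
    apply hw1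
    rw [Submodule.mem_span_singleton]
    refine ⟨d⁻¹ * c, ?_⟩
    rw [mul_smul, ← hπ, smul_smul, inv_mul_cancel₀ hd, one_smul]
  have h1 : P0 = H := by
    rcases h.max.le_iff.1 hH with h2 | h2
    · exact absurd h2 hne
    · exact h2
  rw [← h1]
  exact ⟨π, a, σ, hr, c, hc, hπ⟩

/-- `|B| (q - 1) = q ^ n - 1` -/
theorem card_B {H B : Subgroup G} (h : Ex T H B) (hn : 3 ≤ n) (hv : v ≠ 0) (hs : VStab v ≤ pg e H) :
    Nat.card B * (Fintype.card F - 1) = Fintype.card F ^ n - 1 := by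
  classical
  have hf := (h.fac (not_le_B h hn hv hs)).symm
  choose! P A S hP using fun x => all_rep h hn hv hs x
  -- the bijection `B × Fˣ → V \ 0`
  let f : B × Fˣ → {w : Fin n → F // w ≠ 0} := fun z => ⟨(z.2 : F) • P z.1 v, by
    refine smul_ne_zero z.2.ne_zero ?_
    intro h0
    apply hv
    apply (P (z.1 : G)).injective
    rw [h0, (hP (z.1 : G)).map0]⟩
  have hcol : ∀ x y : G, x ∈ B → y ∈ B → ∀ c d : F, c ≠ 0 → d ≠ 0 → c • P x v = d • P y v → x = y := by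
    intro x y hx hy c d hc hd h1
    have h2 := (hP y).inv.mul (hP x)
    have h3 : ((P y)⁻¹ * P x) v = (S y).symm (c⁻¹ * d) • v := by
      rw [Equiv.Perm.mul_apply]
      have h4 : P x v = (c⁻¹ * d) • P y v := by rw [mul_smul, ← h1, smul_smul, inv_mul_cancel₀ hc, one_smul]
      rw [h4, (hP y).inv.smul, show (P y)⁻¹ (P y v) = v from (P y).symm_apply_apply v]
      rfl
    have h4 : y⁻¹ * x ∈ H := mem_H h hn hv hs h2 ((map_ne_zero_iff _ (S y).symm.injective).2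
      (mul_ne_zero (inv_ne_zero hc) hd)) h3
    have h5 : y⁻¹ * x ∈ H ⊓ B := ⟨h4, B.mul_mem (B.inv_mem hy) hx⟩
    rw [h.inf, Subgroup.mem_bot] at h5
    exact (inv_mul_eq_one.1 h5).symm
  have hbij : Function.Bijective f := by
    constructor
    · rintro ⟨⟨x, hx⟩, c⟩ ⟨⟨y, hy⟩, d⟩ h1
      have h2 : (c : F) • P x v = (d : F) • P y v := congrArg Subtype.val h1
      have h3 := hcol x y hx hy c d c.ne_zero d.ne_zero h2
      subst h3
      have h4 : P x v ≠ 0 := by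
        intro h0
        apply hv
        apply (P x).injective
        rw [h0, (hP x).map0]
      have h5 : (c : F) = d := smul_left_injective F h4 h2
      rw [Units.ext h5]
    · rintro ⟨w, hw⟩
      obtain ⟨π, ⟨x, hx, a, σ, hr⟩, c, hc, hπ⟩ := lf_trans hf hn hs hv hv hw
      obtain ⟨-, d, hd, h1⟩ := hr.unique' (by omega) (hP x)
      refine ⟨⟨⟨x, hx⟩, Units.mk0 (c⁻¹ * d) (mul_ne_zero (inv_ne_zero hc) hd)⟩, Subtype.ext ?_⟩
      show (c⁻¹ * d) • P x v = w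
      rw [mul_smul, ← h1, hπ, smul_smul, inv_mul_cancel₀ hc, one_smul]
  have h1 := Nat.card_congr (Equiv.ofBijective f hbij)
  rw [Nat.card_prod, Nat.card_eq_fintype_card (α := Fˣ), Fintype.card_units] at h1
  rw [h1, Nat.card_eq_fintype_card, Fintype.card_subtype_compl, Fintype.card_subtype_eq, Fintype.card_fun,
    Fintype.card_fin]

/-- **PSL-6a** with Hering's theorem as a hypothesis -/
theorem hering_H' (hA : HAct) {H B : Subgroup G} (h : Ex T H B) (hn : 3 ≤ n) (hv : v ≠ 0) (hs : VStab v ≤ pg e H) :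
    Concl B := by
  classical
  have hf := (h.fac (not_le_B h hn hv hs)).symm
  obtain ⟨F₁, _, _, e₁, -, hsl⟩ := lf_one hA hf hn hs hv
  -- the multiplications
  let D : Subgroup F₁ˣ :=
    { carrier := {c | ∃ b ∈ B, ∃ π a σ, Rep h.normal e b π a σ ∧ SR e₁ π (c : F₁) 1}
      one_mem' := ⟨1, B.one_mem, 1, 1, 1, Rep.one, SR.one⟩
      mul_mem' := by
        rintro c d ⟨x, hx, π, a, σ, h1, h1'⟩ ⟨y, hy, ρ, b, τ, h2, h2'⟩
        exact ⟨x * y, B.mul_mem hx hy, _, _, _, h1.mul h2, h1'.mul h2'⟩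
      inv_mem' := by
        rintro c ⟨x, hx, π, a, σ, h1, h1'⟩
        refine ⟨x⁻¹, B.inv_mem hx, _, _, _, h1.inv, ?_⟩
        have h2 := h1'.inv
        rw [inv_one] at h2
        rw [Units.val_inv_eq_inv_val]
        exact h2 }
  have hD : ∀ c : D, ∃ b : B, ∃ π a σ, Rep h.normal e (b : G) π a σ ∧ SR e₁ π ((c : F₁ˣ) : F₁) 1 := by
    rintro ⟨c, b, hb, h1⟩
    exact ⟨⟨b, hb⟩, h1⟩
  have huniq : ∀ {x y : G} {π ρ : Equiv.Perm (Fin n → F)} {a b : GL (Fin n) F} {σ τ : F ≃+* F} {c : F₁}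
      {μ : F₁ ≃+* F₁}, Rep h.normal e x π a σ → Rep h.normal e y ρ b τ → SR e₁ π c μ → SR e₁ ρ c μ → x = y := by
    intro x y π ρ a b σ τ c μ h1 h2 h3 h4
    have h5 : π = ρ := by
      apply Equiv.ext
      intro w
      apply e₁.injective
      rw [h3, h4]
    subst h5
    exact (h1.unique h.cent (by omega) h2).1
  choose f hfs using hD
  let φ : D →* B :=
    { toFun := f
      map_one' := by
        obtain ⟨π, a, σ, h1, h2⟩ := hfs 1
        exact Subtype.ext (huniq h1 Rep.one h2 SR.one)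
      map_mul' := by
        intro c d
        obtain ⟨π, a, σ, h1, h2⟩ := hfs (c * d)
        obtain ⟨π1, a1, σ1, h3, h4⟩ := hfs c
        obtain ⟨π2, a2, σ2, h5, h6⟩ := hfs d
        exact Subtype.ext (huniq h1 (h3.mul h5) h2 (h4.mul h6)) }
  have hmem : ∀ b : B, b ∈ φ.range ↔ ∃ π a σ, Rep h.normal e (b : G) π a σ ∧ ∃ c : F₁, SR e₁ π c 1 := by
    intro b
    constructor
    · rintro ⟨c, rfl⟩
      obtain ⟨π, a, σ, h1, h2⟩ := hfs c
      exact ⟨π, a, σ, h1, _, h2⟩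
    · rintro ⟨π, a, σ, h1, c, h2⟩
      refine ⟨⟨Units.mk0 c h2.ne, b, b.2, π, a, σ, h1, h2⟩, ?_⟩
      obtain ⟨π', a', σ', h3, h4⟩ := hfs ⟨Units.mk0 c h2.ne, b, b.2, π, a, σ, h1, h2⟩
      exact Subtype.ext (huniq h3 h1 h4 h2)
  have hlift : ∀ b : B, ∃ π a σ, Rep h.normal e (b : G) π a σ ∧ ∃ (c : F₁) (τ : F₁ ≃+* F₁), SR e₁ π c τ := by
    intro b
    obtain ⟨π, a, σ, h1⟩ := all_rep h hn hv hs (b : G)
    obtain ⟨c, τ, h2⟩ := hsl π ⟨b, b.2, a, σ, h1⟩
    exact ⟨π, a, σ, h1, c, τ, h2⟩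
  refine Or.inl ⟨Fintype.card F, n, FiniteField.isPrimePow_card F, card_B h hn hv hs, φ.range, ?_, ?_, ?_⟩
  · refine ⟨fun b hb x => ?_⟩
    rw [hmem] at hb ⊢
    obtain ⟨π, a, σ, h1, c, h2⟩ := hb
    obtain ⟨ρ, a', σ', h3, d, τ, h4⟩ := hlift x
    have h5 := (h4.mul h2).mul h4.inv
    rw [mul_one, mul_inv_cancel] at h5
    exact ⟨_, _, _, (h3.mul h1).mul h3.inv, _, h5⟩
  · have : IsCyclic D := inferInstance
    exact isCyclic_of_surjective _ φ.rangeRestrict_surjective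
  · intro hnorm
    -- the group of the field automorphisms
    let E : Subgroup (F₁ ≃+* F₁) :=
      { carrier := {τ | ∃ b ∈ B, ∃ π a σ, Rep h.normal e b π a σ ∧ ∃ c : F₁, SR e₁ π c τ}
        one_mem' := ⟨1, B.one_mem, 1, 1, 1, Rep.one, 1, SR.one⟩
        mul_mem' := by
          rintro c d ⟨x, hx, π, a, σ, h1, _, h1'⟩ ⟨y, hy, ρ, b, τ, h2, _, h2'⟩
          exact ⟨x * y, B.mul_mem hx hy, _, _, _, h1.mul h2, _, h1'.mul h2'⟩
        inv_mem' := by
          rintro c ⟨x, hx, π, a, σ, h1, _, h1'⟩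
          exact ⟨x⁻¹, B.inv_mem hx, _, _, _, h1.inv, _, h1'.inv⟩ }
    have hcyc : IsCyclic (F₁ ≃+* F₁) := LieRecognition.FieldSemilinear.isCyclic_ringAut F₁
    have hcyc2 : IsCyclic E := inferInstance
    obtain ⟨⟨τ0, b0, hb0, π0, a0, σ0, h1, c0, h2⟩, hgen⟩ := hcyc2.exists_generator
    refine ⟨⟨QuotientGroup.mk (⟨b0, hb0⟩ : B), fun z => ?_⟩⟩
    obtain ⟨b, rfl⟩ := QuotientGroup.mk_surjective z
    obtain ⟨π, a, σ, h3, c, τ, h4⟩ := hlift b
    obtain ⟨k, hk⟩ := hgen ⟨τ, b, b.2, π, a, σ, h3, c, h4⟩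
    have hk' : τ0 ^ k = τ := congrArg Subtype.val hk
    refine ⟨k, ?_⟩
    show (QuotientGroup.mk (⟨b0, hb0⟩ : B) : B ⧸ φ.range) ^ k = QuotientGroup.mk b
    rw [← QuotientGroup.mk_zpow, QuotientGroup.eq, hmem]
    -- powers
    have hpow : ∀ k : ℤ, ∃ π a σ, Rep h.normal e (b0 ^ k) π a σ ∧ ∃ c : F₁, SR e₁ π c (τ0 ^ k) := by
      have hnat : ∀ k : ℕ, ∃ π a σ, Rep h.normal e (b0 ^ k) π a σ ∧ ∃ c : F₁, SR e₁ π c (τ0 ^ k) := by
        intro k
        induction k with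
        | zero =>
          rw [pow_zero, pow_zero]
          exact ⟨1, 1, 1, Rep.one, 1, SR.one⟩
        | succ k ih =>
          obtain ⟨π', a', σ', h5, c', h6⟩ := ih
          rw [pow_succ, pow_succ]
          exact ⟨_, _, _, h5.mul h1, _, h6.mul h2⟩
      intro k
      obtain ⟨m, rfl | rfl⟩ := k.eq_nat_or_neg
      · rw [zpow_natCast, zpow_natCast]
        exact hnat m
      · obtain ⟨π', a', σ', h5, c', h6⟩ := hnat m
        rw [_root_.zpow_neg, _root_.zpow_neg, zpow_natCast, zpow_natCast]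
        exact ⟨_, _, _, h5.inv, _, h6.inv⟩
    obtain ⟨π', a', σ', h5, c', h6⟩ := hpow k
    have h7 := h6.inv.mul h4
    rw [hk', inv_mul_cancel] at h7
    exact ⟨_, _, _, h5.inv.mul h3, _, h7⟩

end fac

end Cfsg.Agent.H831.Rl
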