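import Cfsg.Agent.H831.Rl.HerB
import Cfsg.Agent.H667.HerAct
import Cfsg.Agent.S1059

/-!
# S3691, PSL-6 (helper831): Hering's theorem applied to the group of lifts

* `HAct` : the action form of Hering's theorem (`H667.HerFin.action_of_main`)
* `nat_elt` : in the natural case there is a linear element of order `p`
* `lf_one` : if `Fac T X Y` and `VStab v ≤ pg e Y` then `Lf e X` is a group of semilinear maps of a field with `q ^ n` elements
-/

set_option autoImplicit false

namespace Cfsg.Agent.H831.Rl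

open Cfsg Cfsg.Geo Matrix Cfsg.Agent.H454.Reg Cfsg.Agent.H851.Rl
open Cfsg.Agent.H667.HerFin (ConclTwo NatOut Small)
open scoped MatrixGroups

universe u

/-- the action form of Hering's theorem -/
def HAct : Prop := ∀ {K V : Type} [Field K] [Fintype K] [AddCommGroup V] [Module K V] [Finite V]
    (q n : ℕ) (_ : Fintype.card K = q) (_ : Module.finrank K V = n) (_ : 2 ≤ n)
    (H : Subgroup (Equiv.Perm V)) (_ : ∀ h ∈ H, ∀ v w : V, h (v + w) = h v + h w)
    (_ : ∀ h ∈ H, ∃ σ : K ≃+* K, ∀ (c : K) (v : V), h (c • v) = σ c • h v)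
    (_ : ∀ v w : V, v ≠ 0 → w ≠ 0 → ∃ h ∈ H, ∃ c : K, h v = c • w),
    ConclTwo q n H ∨ NatOut K q n H ∨ Small q n H

section nat

variable {K V : Type} [Field K] [Fintype K] [AddCommGroup V] [Module K V] [Finite V] {p : ℕ} [Fact p.Prime] [CharP K p]

omit [Fintype K] [Finite V] [Fact p.Prime] in
theorem transv_pow {F₁ : Type} [Field F₁] [Module F₁ V] (f : V →ₗ[F₁] F₁) {a : V} (ha : f a = 0) (h : Equiv.Perm V)
    (he : ∀ v, h v = v + f v • a) (hp : ∀ v : V, p • v = 0) : h ^ p = 1 := by
  have key : ∀ (k : ℕ) (v : V), (h ^ k) v = v + k • (f v • a) := by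
    intro k
    induction k with
    | zero => intro v; rw [pow_zero, zero_smul, add_zero]; rfl
    | succ k ih =>
      intro v
      rw [pow_succ, Equiv.Perm.mul_apply, ih, he, map_add, map_smul, ha, smul_zero, add_zero, succ_nsmul]
      abel
  apply Equiv.ext
  intro v
  rw [key, hp, add_zero]
  rfl

omit [Finite V] in
/-- in the natural case there is a linear element of order `p` -/
theorem nat_elt [Nontrivial V] [Finite V] {q n : ℕ} (hq : Fintype.card K = q) {H : Subgroup (Equiv.Perm V)}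
    (hN : NatOut K q n H) :
    ∃ π ∈ H, π ≠ 1 ∧ (∀ (c : K) (v : V), π (c • v) = c • π v) ∧ π ^ p = 1 := by
  have hpz : ∀ v : V, p • v = 0 := fun v => by
    rw [← Nat.cast_smul_eq_nsmul K, CharP.cast_eq_zero, zero_smul]
  obtain ⟨F₁, _, _, _, φ, b, hφ, h2, hF₁, hb, hsemi, hcase⟩ := hN
  have : Module.Finite F₁ V := Module.Finite.of_finite
  -- a transvection in `H` is enough
  have key : ∀ (f : V →ₗ[F₁] F₁) (a : V), f a = 0 → (∃ v, f v • a ≠ 0) → ∀ h ∈ H, (∀ v, h v = v + f v • a) →
      ∃ π ∈ H, π ≠ 1 ∧ (∀ (c : K) (v : V), π (c • v) = c • π v) ∧ π ^ p = 1 := by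
    intro f a ha hne h hh he
    refine ⟨h, hh, ?_, ?_, transv_pow f ha h he hpz⟩
    · rintro rfl
      obtain ⟨v, hv⟩ := hne
      have := he v
      rw [Equiv.Perm.one_apply] at this
      exact hv (by simpa using this)
    · intro c v
      rw [he, he, hφ c v, hφ c (v + _), map_smul, smul_add, smul_eq_mul, mul_smul]
  obtain ⟨a, ha⟩ := exists_ne (0 : V)
  rcases hcase with h | ⟨f, hf, hfn, h, -⟩ | ⟨hq2, -, h4, f, hf, hfn, -, N, hNn, ⟨eN⟩, hiso⟩
  · have hlt : Submodule.span F₁ ({a} : Set V) < ⊤ := by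
      rw [lt_top_iff_ne_top]
      intro ht
      have h3 := finrank_span_singleton (K := F₁) ha
      rw [ht, finrank_top] at h3
      omega
    obtain ⟨f, hf0, hf⟩ := Submodule.exists_le_ker_of_lt_top _ hlt
    have hfa : f a = 0 := hf (Submodule.mem_span_singleton_self a)
    obtain ⟨π, hπ, he⟩ := h (LinearEquiv.transvection hfa) (LinearEquiv.transvection.det_eq_one hfa)
    refine key f a hfa ?_ π hπ (fun v => by rw [he, LinearEquiv.transvection.apply])
    obtain ⟨v, hv⟩ : ∃ v, f v ≠ 0 := by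
      by_contra hcon
      push Not at hcon
      exact hf0 (LinearMap.ext hcon)
    exact ⟨v, smul_ne_zero hv ha⟩
  · have hfa : f.flip a a = 0 := hf a
    obtain ⟨π, hπ, he⟩ := h (LinearEquiv.transvection hfa) (fun u v => by
      have e1 : ∀ u, (f.flip a) u = f u a := fun _ => rfl
      rw [LinearEquiv.transvection.apply, LinearEquiv.transvection.apply]
      simp only [map_add, map_smul, LinearMap.add_apply, LinearMap.smul_apply, smul_eq_mul, e1]
      have h5 : f a v + f v a = 0 := by
        have h6 := hf (a + v)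
        simp only [map_add, LinearMap.add_apply] at h6
        have h7 := hf a
        have h8 := hf v
        linear_combination h6 - h7 - h8
      rw [hf a]
      linear_combination f u a * h5)
    refine key (f.flip a) a hfa ?_ π hπ (fun v => by rw [he, LinearEquiv.transvection.apply])
    obtain ⟨v, hv⟩ : ∃ v, f v a ≠ 0 := by
      by_contra hcon
      push Not at hcon
      exact ha (hfn.2 a hcon)
    exact ⟨v, smul_ne_zero hv ha⟩
  · have hp2 : p = 2 := by
      obtain ⟨m, -, hm⟩ := FiniteField.card K p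
      have h5 : 2 ∣ p ^ (m : ℕ) := by rw [← hm, hq]; exact Nat.dvd_of_mod_eq_zero hq2
      exact ((Nat.prime_dvd_prime_iff_eq Nat.prime_two Fact.out).1 (Nat.prime_two.dvd_of_dvd_pow h5)).symm
    have h5 : 2 ∣ Nat.card N := by
      rw [Nat.card_congr eN.toEquiv, S1059.result rfl]
      have h6 : 2 ∣ Fintype.card F₁ ^ 6 := by
        rw [hF₁]
        have hb0 : b ≠ 0 := by
          rintro rfl
          rw [pow_zero] at hF₁
          omega
        exact dvd_pow (dvd_pow (Nat.dvd_of_mod_eq_zero hq2) hb0) (by norm_num)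
      exact (h6.mul_right _).mul_right _
    have hfin : Finite (Equiv.Perm V) := inferInstance
    obtain ⟨x, hx⟩ := exists_prime_orderOf_dvd_card' 2 h5
    refine ⟨((x : H) : Equiv.Perm V), (x : H).2, ?_, ?_, ?_⟩
    · intro h0
      have h6 : x = 1 := Subtype.ext (Subtype.ext h0)
      rw [h6, orderOf_one] at hx
      omega
    · obtain ⟨σ, hσ⟩ := hsemi _ (x : H).2
      have hσ1 : ∀ c, σ c = c := by
        intro c
        obtain ⟨u, hu⟩ : ∃ u, f u a ≠ 0 := by
          by_contra hcon
          push Not at hcon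
          exact ha (hfn.2 a hcon)
        have h6 := hiso _ x.2 (c • u) a
        rw [hσ, map_smul, LinearMap.smul_apply, map_smul, LinearMap.smul_apply, hiso _ x.2 u a, smul_eq_mul,
          smul_eq_mul] at h6
        exact mul_right_cancel₀ hu h6
      intro c v
      rw [hφ, hσ, hσ1, ← hφ]
    · rw [hp2]
      have h6 : x ^ 2 = 1 := by rw [← hx]; exact pow_orderOf_eq_one x
      exact congrArg (fun y : N => ((y : H) : Equiv.Perm V)) h6

end nat

section one

variable {G : Type u} [Group G] [Finite G] {T : Subgroup G} {n : ℕ} {F : Type} [Field F] [Fintype F]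
  {e : T ≃* Matrix.ProjectiveSpecialLinearGroup (Fin n) F} {X Y : Subgroup G} {v : Fin n → F}

omit [Finite G] in
theorem card_le_pow (e : T ≃* Matrix.ProjectiveSpecialLinearGroup (Fin n) F) :
    Nat.card T ≤ Fintype.card F ^ (n * n) := by
  classical
  have h1 : Nat.card (Matrix.ProjectiveSpecialLinearGroup (Fin n) F) ≤ Nat.card (Matrix.SpecialLinearGroup (Fin n) F) :=
    Nat.card_le_card_of_surjective _ Cfsg.Agent.ClassicalGeometry.AutPSL.Root.pr_surjective
  have h2 : Nat.card (Matrix.SpecialLinearGroup (Fin n) F) ≤ Nat.card (Matrix (Fin n) (Fin n) F) :=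
    Nat.card_le_card_of_injective (fun s : Matrix.SpecialLinearGroup (Fin n) F => (s : Matrix (Fin n) (Fin n) F))
      Subtype.val_injective
  have h3 : Nat.card (Matrix (Fin n) (Fin n) F) = Fintype.card F ^ (n * n) := by
    show Nat.card (Fin n → Fin n → F) = _
    rw [Nat.card_fun, Nat.card_fun, Nat.card_fin, ← pow_mul, Nat.card_eq_fintype_card]
  rw [Nat.card_congr e.toEquiv]
  omega

/-- **`Lf e X` is a group of semilinear maps of a field with `q ^ n` elements.** -/
theorem lf_one (hA : HAct) (h : Fac T X Y) (hn : 3 ≤ n) (hs : VStab v ≤ pg e Y) (hv : v ≠ 0) :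
    ∃ (F₁ : Type) (_ : Field F₁) (_ : Fintype F₁) (e₁ : (Fin n → F) ≃+ F₁), Fintype.card F₁ = Fintype.card F ^ n ∧
      ∀ π ∈ Lf h.normal e X, ∃ (c : F₁) (σ : F₁ ≃+* F₁), ∀ w, e₁ (π w) = c * σ (e₁ w) := by
  have hpp : (ringChar F).Prime := CharP.char_is_prime F _
  have : Fact (ringChar F).Prime := ⟨hpp⟩
  have hnt : Nontrivial (Fin n → F) := ⟨⟨v, 0, hv⟩⟩
  have hlarge := h.large.trans_le (card_le_pow e)
  rcases hA (K := F) (V := Fin n → F) (Fintype.card F) n rfl (Module.finrank_fin_fun F) (by omega) (Lf h.normal e X)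
    (by rintro π ⟨x, hx, a, σ, hr⟩ u w; exact hr.add u w)
    (by rintro π ⟨x, hx, a, σ, hr⟩; exact ⟨σ, hr.smul⟩)
    (by
      intro u w hu hw
      obtain ⟨π, hπ, c, -, hc⟩ := lf_trans h hn hs hv hu hw
      exact ⟨π, hπ, c, hc⟩) with h1 | h1 | h1
  · exact h1
  · exfalso
    obtain ⟨π, hπ, hne, hlin, hp⟩ := nat_elt (p := ringChar F) rfl h1
    exact hne (no_p h hn hs hv hπ hlin hp)
  · exfalso
    rcases h1 with ⟨h1, -⟩ | ⟨h1, -⟩ | ⟨h1, h2, -⟩ | ⟨h1, h2, -⟩ | ⟨h1, h2, -⟩ | ⟨h1, h2, -⟩
    · omega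
    · omega
    all_goals
      subst h1
      rw [h2] at hlarge
      revert hlarge
      norm_num [Nat.factorial]

end one

end Cfsg.Agent.H831.Rl
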